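import Cfsg.Agent.Mathieu.OctadPointwise

/-!
The pointwise stabiliser of the base octad of `Cfsg.M24`, labelled additively by `Fin 16`, and
the normalising action of the octad stabiliser on the complement.
-/

set_option autoImplicit false

namespace CfsgLib.M24Centralizer

open Cfsg CfsgLib.Mathieu

/-- translations by label -/
def transTab : List ℕ :=
  [566073426779046459040877649791461066728553822781039575296,
    565205769725840036694602927742369884446872112412668068096,
    564728358535254677311065767183622622399995563894844293376,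
    565113370743653090875585183308503099927125018657809367296,
    565399569250201788234129054762078219177298903141007360256,
    564919185394254767161431177722554914050553753760576962816,
    564537935142741672021005194776512269838173077554382110976,
    565978006712811190384577552928446206662672319317842985216,
    564827141425591996311280244733034358286479746640136765696,
    565878126275019384089453057188730744199984462678812918016,
    565779711734943905085954662993657873470960937479698514176,
    564634823915048411554457391326392249617996968297106637056,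
    565493488239986500995722799542798324125175233247107481856,
    564348613710420807073877270882327503557437081886306468096,
    565019463388836171544282210455278000650214024247559454976,
    565685792648485468331498721340437743820357305959352238336]

/-- table of translation `v` -/
def tb (v : Fin 16) : ℕ := transTab.getD v.val 0

/-- the base point outside the octad -/
def p0 : GolayPt := m24Base.getD 6 none

/-- the octad -/
def oct : Finset GolayPt := setOf24 m24BaseOctad

theorem tb_valid : ∀ v, (tableValid (tb v) && preservesCode (tb v)) = true := by decide +kernel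

theorem tb_add : ∀ u v : Fin 16, ∀ i : Fin 24,
    app (tb u) (app (tb v) i) = app (tb (u ^^^ v)) i := by decide +kernel

theorem tb_zero : ∀ i : Fin 24, app (tb 0) i = i := by decide +kernel

theorem tb_fix : ∀ v, ∀ i : Fin 24, v ≠ 0 →
    (app (tb v) i = i ↔ pt i ∈ oct) := by decide +kernel

theorem tb_reach : ∀ p : GolayPt, p ∉ oct → ∃ v, app (tb v) (idx p0) = idx p := by decide +kernel

theorem tb_p0_inj : ∀ u v : Fin 16, app (tb u) (idx p0) = app (tb v) (idx p0) → u = v := by
  decide +kernel

/-- translation `v` -/
noncomputable def T (v : Fin 16) : Equiv.Perm GolayPt :=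
  (exists_rep_of_valid (Bool.and_eq_true_iff.1 (tb_valid v)).1).choose

theorem rep_T (v : Fin 16) : Rep enc (T v) (tb v) :=
  (exists_rep_of_valid (Bool.and_eq_true_iff.1 (tb_valid v)).1).choose_spec

theorem idx_T (v : Fin 16) (p : GolayPt) : idx (T v p) = app (tb v) (idx p) := (rep_T v p).symm

theorem T_mem (v : Fin 16) : T v ∈ M24 :=
  mem_M24_of_table (rep_T v) (Bool.and_eq_true_iff.1 (tb_valid v)).2

theorem T_mul (u v : Fin 16) : T u * T v = T (u ^^^ v) := by
  refine Equiv.ext fun p => idx_injective ?_
  rw [Equiv.Perm.mul_apply, idx_T, idx_T, idx_T]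
  exact tb_add u v ⟨idx p, idx_lt p⟩

theorem T_zero : T 0 = 1 := by
  refine Equiv.ext fun p => idx_injective ?_
  rw [idx_T, Equiv.Perm.one_apply]
  exact tb_zero ⟨idx p, idx_lt p⟩

theorem T_fix_iff {v : Fin 16} (hv : v ≠ 0) (p : GolayPt) : T v p = p ↔ p ∈ oct := by
  rw [← idx_injective.eq_iff, idx_T]
  have := tb_fix v ⟨idx p, idx_lt p⟩ hv
  rw [show pt (⟨idx p, idx_lt p⟩ : Fin 24) = p from pt_idx p] at this
  exact this

theorem T_fix_oct (v : Fin 16) {p : GolayPt} (hp : p ∈ oct) : T v p = p := by
  by_cases hv : v = 0
  · rw [hv, T_zero]; rfl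
  · exact (T_fix_iff hv p).2 hp

theorem T_p0_inj {u v : Fin 16} (h : T u p0 = T v p0) : u = v :=
  tb_p0_inj u v (by rw [← idx_T, ← idx_T, h])

theorem exists_T {p : GolayPt} (hp : p ∉ oct) : ∃ v, T v p0 = p := by
  obtain ⟨v, hv⟩ := tb_reach p hp
  exact ⟨v, idx_injective (by rw [idx_T, hv])⟩

theorem p0_notMem : p0 ∉ oct := by decide +kernel

theorem base_take_subset : ∀ x ∈ m24Base.take 6, x ∈ oct := by decide +kernel

theorem base_eq : m24Base = m24Base.take 6 ++ [p0] := by decide +kernel

/-- the pointwise stabiliser consists of the translations -/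
theorem eq_T_of_fix {g : Equiv.Perm GolayPt} (hg : g ∈ M24) (hfix : ∀ p ∈ oct, g p = p) :
    ∃ v, g = T v := by
  have hq : g p0 ∉ oct := fun h => p0_notMem (g.injective (hfix _ h) ▸ h)
  obtain ⟨v, hv⟩ := exists_T hq
  refine ⟨v, M24_ext hg (T_mem v) fun x hx => ?_⟩
  rw [base_eq, List.mem_append, List.mem_singleton] at hx
  rcases hx with hx | rfl
  · rw [hfix x (base_take_subset x hx), T_fix_oct v (base_take_subset x hx)]
  · exact hv.symm

/-- the setwise stabiliser of the octad -/
def octStab : Subgroup (Equiv.Perm GolayPt) where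
  carrier := {g | g ∈ M24 ∧ ∀ p, g p ∈ oct ↔ p ∈ oct}
  one_mem' := ⟨one_mem _, fun _ => Iff.rfl⟩
  mul_mem' := fun ha hb => ⟨mul_mem ha.1 hb.1, fun p => (ha.2 _).trans (hb.2 p)⟩
  inv_mem' := fun {a} ha => ⟨inv_mem ha.1, fun p => by
    rw [← ha.2 (a⁻¹ p), perm_apply_inv]⟩

theorem exists_conj {g : Equiv.Perm GolayPt} (hg : g ∈ octStab) (v : Fin 16) :
    ∃ w, g * T v * g⁻¹ = T w := by
  refine eq_T_of_fix (mul_mem (mul_mem hg.1 (T_mem v)) (inv_mem hg.1)) fun p hp => ?_
  rw [Equiv.Perm.mul_apply, Equiv.Perm.mul_apply, T_fix_oct v ((octStab.inv_mem hg).2 p |>.2 hp),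
    perm_apply_inv]

/-- only the identity fixes all points off the octad -/
theorem eq_one_of_fix_compl {g : Equiv.Perm GolayPt} (hg : g ∈ M24)
    (hfix : ∀ p, p ∉ oct → g p = p) : g = 1 := by
  have h2 : isCode 6889680 = true ∧ wt 6889680 = 8 := by decide +kernel
  have hsub : ∀ p ∈ setOf24 6889680, p ∉ oct := by decide +kernel
  have ho : oct ∈ octads :=
    setOf24_mem_wordsOfWeight (M := m24BaseOctad) (n := 8) (by decide +kernel) (by decide +kernel)
  obtain ⟨a, ha, hao⟩ := M24_octad_transitive ho (setOf24_mem_wordsOfWeight h2.1 h2.2)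
  obtain ⟨v, hv⟩ := eq_T_of_fix (g := a⁻¹ * g * a) (mul_mem (mul_mem (inv_mem ha) hg) ha)
    fun p hp => by
      rw [Equiv.Perm.mul_apply, Equiv.Perm.mul_apply,
        hfix (a p) (hsub _ (hao ▸ Finset.mem_image_of_mem _ hp)), perm_inv_apply]
  by_cases hv0 : v = 0
  · rw [hv0, T_zero] at hv
    calc g = a * (a⁻¹ * g * a) * a⁻¹ := by group
      _ = 1 := by rw [hv]; group
  · exfalso
    have key : ∀ q, q ∉ oct → a q ∈ oct := by
      intro q hq
      by_contra hn
      apply hq
      rw [← T_fix_iff hv0, ← hv, Equiv.Perm.mul_apply, Equiv.Perm.mul_apply, hfix _ hn,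
        perm_inv_apply]
    have hc : (Finset.univ \ oct).card ≤ oct.card :=
      Finset.card_le_card_of_injOn a (fun q hq => key q (by simpa using hq))
        a.injective.injOn
    exact absurd hc (by decide +kernel)

end CfsgLib.M24Centralizer
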