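import Cfsg.Agent.M24Centralizer.Translations
import Cfsg.Agent.Mathieu.M24Actions

/-!
The centraliser of a translation in `Cfsg.M24` maps isomorphically onto the centraliser of a
transvection in `SL(5, 2)`, by the affine action on the sixteen points off the octad.
-/

set_option autoImplicit false

namespace CfsgLib.M24Centralizer

open Cfsg CfsgLib.Mathieu
open scoped MatrixGroups

/-- the linear part of a label -/
def lin (v : Fin 16) : Fin 5 → ZMod 2 :=
  ![if v.val.testBit 0 then 1 else 0, 0, if v.val.testBit 1 then 1 else 0,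
    if v.val.testBit 2 then 1 else 0, if v.val.testBit 3 then 1 else 0]

/-- the affine vector of a label -/
def aff (v : Fin 16) : Fin 5 → ZMod 2 := lin v + Pi.single 1 1

theorem lin_add : ∀ u v, lin (u ^^^ v) = lin u + lin v := by decide +kernel

theorem lin_surj : ∀ x : Fin 5 → ZMod 2, x 1 = 0 → ∃ v, lin v = x := by decide +kernel

theorem lin_inj : ∀ u v, lin u = lin v → u = v := by decide +kernel

theorem lin_single : ∀ v : Fin 16, lin v = (if v.val.testBit 0 then lin 1 else 0) +
    (if v.val.testBit 1 then lin 2 else 0) + (if v.val.testBit 2 then lin 4 else 0) +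
    (if v.val.testBit 3 then lin 8 else 0) := by decide +kernel

theorem xor_decomp : ∀ v : Fin 16, v = (if v.val.testBit 0 then 1 else 0) ^^^
    (if v.val.testBit 1 then 2 else 0) ^^^ (if v.val.testBit 2 then 4 else 0) ^^^
    (if v.val.testBit 3 then 8 else 0) := by decide +kernel

/-- label of a point off the octad -/
noncomputable def label (p : GolayPt) : Fin 16 :=
  if h : p ∈ oct then 0 else (exists_T h).choose

theorem T_label {p : GolayPt} (h : p ∉ oct) : T (label p) p0 = p := by
  rw [label, dif_neg h]; exact (exists_T h).choose_spec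

theorem T_p0_notMem (v : Fin 16) : T v p0 ∉ oct := fun h => by
  have h2 : T v (T v p0) = T v p0 := T_fix_oct v h
  rw [(T v).injective h2] at h
  exact p0_notMem h

theorem label_T (v : Fin 16) : label (T v p0) = v := T_p0_inj (T_label (T_p0_notMem v))

theorem stab_notMem {g : Equiv.Perm GolayPt} (hg : g ∈ octStab) {p : GolayPt} (hp : p ∉ oct) :
    g p ∉ oct := fun h => hp ((hg.2 p).1 h)

/-- conjugation action on labels -/
noncomputable def act (g : Equiv.Perm GolayPt) (v : Fin 16) : Fin 16 :=
  if h : ∃ w, g * T v * g⁻¹ = T w then h.choose else 0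

theorem act_spec {g : Equiv.Perm GolayPt} (hg : g ∈ octStab) (v : Fin 16) :
    g * T v * g⁻¹ = T (act g v) := by
  rw [act, dif_pos (exists_conj hg v)]; exact (exists_conj hg v).choose_spec

theorem T_injective : Function.Injective T := fun u v h => T_p0_inj (by rw [h])

theorem act_add {g : Equiv.Perm GolayPt} (hg : g ∈ octStab) (u v : Fin 16) :
    act g (u ^^^ v) = act g u ^^^ act g v := by
  refine T_injective ?_
  rw [← act_spec hg, ← T_mul, ← T_mul, ← act_spec hg, ← act_spec hg]
  group

theorem label_g_T {g : Equiv.Perm GolayPt} (hg : g ∈ octStab) (v : Fin 16) :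
    label (g (T v p0)) = act g v ^^^ label (g p0) := by
  refine T_p0_inj ?_
  rw [T_label (stab_notMem hg (T_p0_notMem v)), ← T_mul, Equiv.Perm.mul_apply,
    T_label (stab_notMem hg p0_notMem), ← act_spec hg, Equiv.Perm.mul_apply, Equiv.Perm.mul_apply,
    perm_inv_apply]

/-- columns of the affine matrix -/
noncomputable def cols (g : Equiv.Perm GolayPt) : Fin 5 → Fin 5 → ZMod 2 :=
  ![lin (act g 1), aff (label (g p0)), lin (act g 2), lin (act g 4), lin (act g 8)]

/-- the affine matrix -/
noncomputable def affMat (g : Equiv.Perm GolayPt) : Matrix (Fin 5) (Fin 5) (ZMod 2) :=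
  Matrix.of fun i j => cols g j i

theorem affMat_mulVec {g : Equiv.Perm GolayPt} (hg : g ∈ octStab) (v : Fin 16) :
    (affMat g).mulVec (aff v) = aff (label (g (T v p0))) := by
  have h0 : act g 0 = 0 := T_injective (by rw [← act_spec hg, T_zero, mul_one, mul_inv_cancel])
  have hl0 : lin 0 = 0 := by decide +kernel
  have hlin : lin (act g v) = (if v.val.testBit 0 then lin (act g 1) else 0) +
      (if v.val.testBit 1 then lin (act g 2) else 0) +
      (if v.val.testBit 2 then lin (act g 4) else 0) +
      (if v.val.testBit 3 then lin (act g 8) else 0) := by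
    conv_lhs => rw [xor_decomp v]
    rw [act_add hg, act_add hg, act_add hg, lin_add, lin_add, lin_add]
    simp only [apply_ite (act g), apply_ite lin, h0, hl0]
  have hr : aff (label (g (T v p0))) = lin (act g v) + aff (label (g p0)) := by
    rw [label_g_T hg, aff, aff, lin_add, add_assoc]
  rw [hr, hlin]
  have e1 : lin 1 = Pi.single 0 1 := by decide +kernel
  have e2 : lin 2 = Pi.single 2 1 := by decide +kernel
  have e4 : lin 4 = Pi.single 3 1 := by decide +kernel
  have e8 : lin 8 = Pi.single 4 1 := by decide +kernel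
  rw [aff, lin_single v, e1, e2, e4, e8]
  simp only [Matrix.mulVec_add, apply_ite ((affMat g).mulVec), Matrix.mulVec_zero,
    Matrix.mulVec_single_one]
  rfl

theorem aff_span {M N : Matrix (Fin 5) (Fin 5) (ZMod 2)}
    (h : ∀ v, M.mulVec (aff v) = N.mulVec (aff v)) : M = N := by
  have hl : ∀ v, M.mulVec (lin v) = N.mulVec (lin v) := by
    intro v
    have e : lin v = aff v + aff 0 := by
      revert v; decide +kernel
    rw [e, Matrix.mulVec_add, Matrix.mulVec_add, h, h]
  refine Matrix.ext_of_mulVec_single fun j => ?_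
  fin_cases j
  · show M.mulVec (Pi.single 0 1) = N.mulVec (Pi.single 0 1)
    rw [show (Pi.single 0 1 : Fin 5 → ZMod 2) = lin 1 by decide +kernel]
    exact hl 1
  · show M.mulVec (Pi.single 1 1) = N.mulVec (Pi.single 1 1)
    rw [show (Pi.single 1 1 : Fin 5 → ZMod 2) = aff 0 by decide +kernel]
    exact h 0
  · show M.mulVec (Pi.single 2 1) = N.mulVec (Pi.single 2 1)
    rw [show (Pi.single 2 1 : Fin 5 → ZMod 2) = lin 2 by decide +kernel]
    exact hl 2
  · show M.mulVec (Pi.single 3 1) = N.mulVec (Pi.single 3 1)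
    rw [show (Pi.single 3 1 : Fin 5 → ZMod 2) = lin 4 by decide +kernel]
    exact hl 4
  · show M.mulVec (Pi.single 4 1) = N.mulVec (Pi.single 4 1)
    rw [show (Pi.single 4 1 : Fin 5 → ZMod 2) = lin 8 by decide +kernel]
    exact hl 8

theorem affMat_mul {g h : Equiv.Perm GolayPt} (hg : g ∈ octStab) (hh : h ∈ octStab) :
    affMat (g * h) = affMat g * affMat h := by
  refine aff_span fun v => ?_
  rw [← Matrix.mulVec_mulVec, affMat_mulVec hh, affMat_mulVec hg,
    T_label (stab_notMem hh (T_p0_notMem v)), affMat_mulVec (mul_mem hg hh)]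
  rfl

theorem affMat_one : affMat 1 = 1 := by
  refine aff_span fun v => ?_
  rw [affMat_mulVec octStab.one_mem, Matrix.one_mulVec, Equiv.Perm.one_apply, label_T]

theorem det_eq_one {g : Equiv.Perm GolayPt} (hg : g ∈ octStab) : (affMat g).det = 1 := by
  have h := affMat_mul hg (octStab.inv_mem hg)
  rw [mul_inv_cancel, affMat_one] at h
  have hd := congrArg Matrix.det h
  rw [Matrix.det_one, Matrix.det_mul] at hd
  have key : ∀ a b : ZMod 2, 1 = a * b → a = 1 := by decide
  exact key _ _ hd

/-- the centraliser of the involution inside the octad stabiliser -/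
theorem mem_octStab {g : Equiv.Perm GolayPt} (hg : g ∈ M24) (hc : g * T 1 = T 1 * g) :
    g ∈ octStab := by
  refine ⟨hg, fun p => ?_⟩
  rw [← T_fix_iff (v := 1) (by decide), ← T_fix_iff (v := 1) (by decide)]
  have h : g (T 1 p) = T 1 (g p) := Equiv.Perm.ext_iff.1 hc p
  rw [← h, g.injective.eq_iff]

/-- the involution -/
noncomputable def zEl : M24 := ⟨T 1, T_mem 1⟩

theorem orderOf_zEl : orderOf zEl = 2 := by
  refine orderOf_eq_prime (Subtype.ext ?_) fun h => ?_
  · rw [pow_two, Subgroup.coe_mul]
    show T 1 * T 1 = 1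
    rw [T_mul, show (1 : Fin 16) ^^^ 1 = 0 from rfl, T_zero]
  · have : T 1 = T 0 := by rw [T_zero]; exact congrArg Subtype.val h
    exact absurd (T_injective this) (by decide)

/-- the centraliser -/
abbrev Cen : Subgroup M24 := Subgroup.centralizer ({zEl} : Set M24)

theorem cen_stab (g : Cen) : ((g : M24) : Equiv.Perm GolayPt) ∈ octStab :=
  mem_octStab g.1.2 (congrArg Subtype.val (Subgroup.mem_centralizer_singleton_iff.1 g.2))

/-- the affine action -/
noncomputable def affHom : Cen →* Matrix.SpecialLinearGroup (Fin 5) (ZMod 2) :=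
  MonoidHom.mk' (fun g => ⟨affMat (g.1 : Equiv.Perm GolayPt), det_eq_one (cen_stab g)⟩) fun g h =>
    Subtype.ext (affMat_mul (cen_stab g) (cen_stab h))

theorem act_one (g : Cen) : act (g.1 : Equiv.Perm GolayPt) 1 = 1 := by
  refine T_injective ?_
  rw [← act_spec (cen_stab g)]
  have hc : (g.1 : Equiv.Perm GolayPt) * T 1 = T 1 * g.1 :=
    congrArg Subtype.val (Subgroup.mem_centralizer_singleton_iff.1 g.2)
  rw [hc, mul_inv_cancel_right]

theorem affHom_mem (s : SL(5, ZMod 2))
    (hs : (s : Matrix (Fin 5) (Fin 5) (ZMod 2)) = Matrix.transvection 0 1 1) (g : Cen) :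
    affHom g ∈ Subgroup.centralizer ({s} : Set SL(5, ZMod 2)) := by
  rw [Subgroup.mem_centralizer_singleton_iff]
  refine Subtype.ext ?_
  change affMat (g.1 : Equiv.Perm GolayPt) * (s : Matrix (Fin 5) (Fin 5) (ZMod 2)) = _ * affMat _
  have h0 : cols (g.1 : Equiv.Perm GolayPt) 0 = Pi.single 0 1 := by
    show lin (act _ 1) = _
    rw [act_one]; decide +kernel
  have hrow : ∀ j, cols (g.1 : Equiv.Perm GolayPt) j 1 = if j = 1 then 1 else 0 := by
    intro j
    fin_cases j <;> simp [cols, aff, lin, Matrix.vecHead, Matrix.vecTail]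
  rw [hs, Matrix.transvection, mul_add, add_mul, mul_one, one_mul, add_right_inj]
  ext i j
  have e0 := congrFun h0 i
  simp only [Matrix.mul_apply, Matrix.single_apply, Fin.sum_univ_five, affMat, Matrix.of_apply]
  fin_cases i <;> fin_cases j <;> simp_all

theorem affHom_injective : Function.Injective affHom := by
  rw [injective_iff_map_eq_one]
  intro g hg
  have hM : affMat (g.1 : Equiv.Perm GolayPt) = 1 := congrArg Subtype.val hg
  refine Subtype.ext (Subtype.ext (eq_one_of_fix_compl g.1.2 fun p hp => ?_))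
  have h := affMat_mulVec (cen_stab g) (label p)
  rw [hM, Matrix.one_mulVec, T_label hp] at h
  have h2 : lin (label p) = lin (label ((g.1 : Equiv.Perm GolayPt) p)) := add_right_cancel h
  have h3 := lin_inj _ _ h2
  rw [← T_label (stab_notMem (cen_stab g) hp), ← h3, T_label hp]

/-- independent triples, coded -/
def goodTriples : Finset (Fin 16 × Fin 16 × Fin 16) :=
  Finset.univ.filter fun t => ∀ c : Fin 16, c ≠ 0 →
    (if c.val.testBit 0 then (1 : Fin 16) else 0) ^^^ (if c.val.testBit 1 then t.1 else 0) ^^^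
      (if c.val.testBit 2 then t.2.1 else 0) ^^^ (if c.val.testBit 3 then t.2.2 else 0) ≠ 0

theorem card_goodTriples : goodTriples.card = 1344 := by decide +kernel

theorem card_cen_SL (s : SL(5, ZMod 2))
    (hs : (s : Matrix (Fin 5) (Fin 5) (ZMod 2)) = Matrix.transvection 0 1 1) :
    Nat.card (Subgroup.centralizer ({s} : Set SL(5, ZMod 2))) ≤ 21504 := by
  classical
  have hshape : ∀ M : Subgroup.centralizer ({s} : Set SL(5, ZMod 2)),
      (∀ i, (M.1 : Matrix (Fin 5) (Fin 5) (ZMod 2)) i 0 = if i = 0 then 1 else 0) ∧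
      (∀ j, (M.1 : Matrix (Fin 5) (Fin 5) (ZMod 2)) 1 j = if j = 1 then 1 else 0) := by
    intro M
    have h : ((M.1 * s : SL(5, ZMod 2)) : Matrix (Fin 5) (Fin 5) (ZMod 2)) = ((s * M.1 : SL(5, ZMod 2)) : Matrix (Fin 5) (Fin 5) (ZMod 2)) :=
      congrArg (fun x : SL(5, ZMod 2) => (x : Matrix (Fin 5) (Fin 5) (ZMod 2))) (Subgroup.mem_centralizer_singleton_iff.1 M.2)
    change (M.1 : Matrix (Fin 5) (Fin 5) (ZMod 2)) * (s : Matrix (Fin 5) (Fin 5) (ZMod 2)) =
      (s : Matrix (Fin 5) (Fin 5) (ZMod 2)) * (M.1 : Matrix (Fin 5) (Fin 5) (ZMod 2)) at h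
    rw [hs, Matrix.transvection, mul_add, add_mul, mul_one, one_mul, add_right_inj] at h
    set A := (M.1 : Matrix (Fin 5) (Fin 5) (ZMod 2))
    have e : ∀ i j, (if j = 1 then A i 0 else 0) = if i = 0 then A 1 j else 0 := by
      intro i j
      have := congrFun (congrFun h i) j
      by_cases hj : j = 1 <;> by_cases hi : i = 0 <;> simp_all [Matrix.mul_apply,
        Matrix.single_apply, eq_comm]
    have hdet : A.det = 1 := M.1.2
    have h11 : A 1 1 = A 0 0 := by simpa using (e 0 1).symm
    have hcol : ∀ i, i ≠ 0 → A i 0 = 0 := fun i hi => by simpa [hi] using e i 1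
    have hrow : ∀ j, j ≠ 1 → A 1 j = 0 := fun j hj => by simpa [hj] using (e 0 j).symm
    have h00 : A 0 0 = 1 := by
      have key : ∀ x : ZMod 2, x ≠ 0 → x = 1 := by decide
      refine key _ fun hz => ?_
      rw [Matrix.det_eq_zero_of_column_eq_zero 0 (fun i => by
        by_cases hi : i = 0
        · rw [hi]; exact hz
        · exact hcol i hi)] at hdet
      exact zero_ne_one hdet
    refine ⟨fun i => ?_, fun j => ?_⟩
    · by_cases hi : i = 0
      · rw [hi, h00, if_pos rfl]
      · rw [hcol i hi, if_neg hi]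
    · by_cases hj : j = 1
      · rw [hj, h11, h00, if_pos rfl]
      · rw [hrow j hj, if_neg hj]
  let code : (Fin 5 → ZMod 2) → Fin 16 := fun x =>
    if h : ∃ v, lin v = Function.update x 1 0 then h.choose else 0
  have hcode : ∀ x : Fin 5 → ZMod 2, lin (code x) = Function.update x 1 0 := fun x => by
    have h : ∃ v, lin v = Function.update x 1 0 := lin_surj _ (by simp)
    simp only [code, dif_pos h]; exact h.choose_spec
  let f : Subgroup.centralizer ({s} : Set SL(5, ZMod 2)) → Fin 16 × goodTriples := fun M =>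
    (code ((M.1 : Matrix (Fin 5) (Fin 5) (ZMod 2)).col 1),
      ⟨(code ((M.1 : Matrix (Fin 5) (Fin 5) (ZMod 2)).col 2),
        code ((M.1 : Matrix (Fin 5) (Fin 5) (ZMod 2)).col 3),
        code ((M.1 : Matrix (Fin 5) (Fin 5) (ZMod 2)).col 4)), by
      obtain ⟨hc, hr⟩ := hshape M
      set A := (M.1 : Matrix (Fin 5) (Fin 5) (ZMod 2)) with hA
      refine Finset.mem_filter.2 ⟨Finset.mem_univ _, fun c hc0 h => hc0 ?_⟩
      have h' := congrArg lin h
      rw [lin_add, lin_add, lin_add, show lin 0 = 0 by decide +kernel] at h'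
      have hz : ∀ j : Fin 5, j ≠ 1 → lin (code (A.col j)) = A.col j := fun j hj => by
        rw [hcode, show (0 : ZMod 2) = A.col j 1 by simp [Matrix.col, hr, hj],
          Function.update_eq_self]
      have h1 : lin 1 = A.col 0 := by
        rw [show lin 1 = Pi.single 0 1 by decide +kernel]
        funext i
        simp [Matrix.col, hc, Pi.single_apply]
      have hw : A.mulVec (lin c) = 0 := by
        rw [← h']
        simp only [apply_ite lin, show lin 0 = 0 by decide +kernel, hz 2 (by decide),
          hz 3 (by decide), hz 4 (by decide), h1]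
        funext i
        simp only [Matrix.mulVec, dotProduct, Fin.sum_univ_five, lin, Pi.add_apply, Matrix.col]
        by_cases b0 : c.val.testBit 0 <;> by_cases b1 : c.val.testBit 1 <;>
          by_cases b2 : c.val.testBit 2 <;> by_cases b3 : c.val.testBit 3 <;>
          simp [b0, b1, b2, b3]
      have hu : IsUnit A.det := by rw [show A.det = 1 from M.1.2]; exact isUnit_one
      have := Matrix.mulVec_injective_iff_isUnit.2 ((Matrix.isUnit_iff_isUnit_det A).2 hu)
        (hw.trans (Matrix.mulVec_zero A).symm)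
      exact lin_inj c 0 (by rw [this]; decide +kernel)⟩)
  have hf : Function.Injective f := by
    intro M N h
    obtain ⟨hMc, hMr⟩ := hshape M
    obtain ⟨hNc, hNr⟩ := hshape N
    simp only [f, Prod.mk.injEq, Subtype.mk.injEq] at h
    obtain ⟨h1, h2, h3, h4⟩ := h
    refine Subtype.ext (Subtype.ext (Matrix.ext fun i j => ?_))
    have key : ∀ j, code ((M.1 : Matrix (Fin 5) (Fin 5) (ZMod 2)).col j) =
        code ((N.1 : Matrix (Fin 5) (Fin 5) (ZMod 2)).col j) →
        (M.1 : Matrix (Fin 5) (Fin 5) (ZMod 2)) i j =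
          (N.1 : Matrix (Fin 5) (Fin 5) (ZMod 2)) i j := by
      intro j e
      by_cases hi : i = 1
      · rw [hi, hMr, hNr]
      · have e' := congrFun (congrArg lin e) i
        rwa [hcode, hcode, Function.update_of_ne hi, Function.update_of_ne hi] at e'
    fin_cases j
    · exact (hMc i).trans (hNc i).symm
    · exact key 1 h1
    · exact key 2 h2
    · exact key 3 h3
    · exact key 4 h4
  refine (Nat.card_le_card_of_injective f hf).trans ?_
  rw [Nat.card_prod, Nat.card_eq_fintype_card, Fintype.card_fin, Nat.card_eq_fintype_card,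
    Fintype.card_coe, card_goodTriples]

theorem card_Cen : 21504 ≤ Nat.card Cen := by
  classical
  let S : Subgroup M24 := octStab.subgroupOf M24
  have hS : S.index ≤ 759 := by
    let f : M24 → octads := fun g => ⟨oct.image (g : Equiv.Perm GolayPt), octad_image g.2
      (setOf24_mem_wordsOfWeight (M := m24BaseOctad) (n := 8) (by decide +kernel) (by decide +kernel))⟩
    have hf : ∀ g h : M24, f g = f h → g⁻¹ * h ∈ S := by
      intro g h e
      have e' : oct.image (g : Equiv.Perm GolayPt) = oct.image (h : Equiv.Perm GolayPt) :=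
        congrArg Subtype.val e
      refine Subgroup.mem_subgroupOf.2 ⟨(g⁻¹ * h).2, fun p => ?_⟩
      show (g : Equiv.Perm GolayPt)⁻¹ ((h : Equiv.Perm GolayPt) p) ∈ oct ↔ _
      constructor
      · intro hp
        have : (h : Equiv.Perm GolayPt) p ∈ oct.image (h : Equiv.Perm GolayPt) := by
          rw [← e']; exact Finset.mem_image.2 ⟨_, hp, perm_apply_inv _ _⟩
        obtain ⟨r, hr, hrp⟩ := Finset.mem_image.1 this
        rwa [← (h : Equiv.Perm GolayPt).injective hrp]
      · intro hp
        have : (h : Equiv.Perm GolayPt) p ∈ oct.image (g : Equiv.Perm GolayPt) := by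
          rw [e']; exact Finset.mem_image_of_mem _ hp
        obtain ⟨r, hr, hrp⟩ := Finset.mem_image.1 this
        rwa [← hrp, perm_inv_apply]
    let F : M24 ⧸ S → octads := fun q => f q.out
    have hF : Function.Injective F := fun a b e => by
      have := QuotientGroup.eq.2 (hf _ _ e)
      rwa [QuotientGroup.out_eq', QuotientGroup.out_eq'] at this
    have hfin : Finite octads := Subtype.finite
    calc S.index = Nat.card (M24 ⧸ S) := rfl
      _ ≤ Nat.card octads := Nat.card_le_card_of_injective F hF
      _ = 759 := by rw [Nat.card_coe_set_eq, ncard_octads]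
  have hrel : Cen.relIndex S ≤ 15 := by
    let F : S ⧸ (Cen.subgroupOf S) → {v : Fin 16 // v ≠ 0} := fun q =>
      ⟨act ((q.out : M24) : Equiv.Perm GolayPt) 1, fun h => by
        have h' := act_spec (Subgroup.mem_subgroupOf.1 q.out.2) 1
        rw [h, T_zero, mul_inv_eq_one, mul_eq_left] at h'
        exact absurd (T_injective (h'.trans T_zero.symm)) (by decide)⟩
    have hF : Function.Injective F := fun a b e => by
      have e' : act ((a.out : M24) : Equiv.Perm GolayPt) 1 =
          act ((b.out : M24) : Equiv.Perm GolayPt) 1 := congrArg Subtype.val e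
      rw [← a.out_eq', ← b.out_eq']
      refine QuotientGroup.eq.2 (Subgroup.mem_subgroupOf.2 ?_)
      rw [Subgroup.mem_centralizer_singleton_iff]
      refine Subtype.ext ?_
      have ha := act_spec (Subgroup.mem_subgroupOf.1 a.out.2) 1
      have hb := act_spec (Subgroup.mem_subgroupOf.1 b.out.2) 1
      rw [e', ← hb] at ha
      show ((a.out : M24) : Equiv.Perm GolayPt)⁻¹ * (b.out : M24) * T 1 =
        T 1 * (((a.out : M24) : Equiv.Perm GolayPt)⁻¹ * (b.out : M24))
      generalize ((a.out : M24) : Equiv.Perm GolayPt) = x at ha ⊢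
      generalize ((b.out : M24) : Equiv.Perm GolayPt) = y at ha ⊢
      calc x⁻¹ * y * T 1 = x⁻¹ * (y * T 1 * y⁻¹) * y := by group
        _ = x⁻¹ * (x * T 1 * x⁻¹) * y := by rw [ha]
        _ = _ := by group
    calc Cen.relIndex S = Nat.card (S ⧸ Cen.subgroupOf S) := rfl
      _ ≤ Nat.card {v : Fin 16 // v ≠ 0} := Nat.card_le_card_of_injective F hF
      _ = 15 := by rw [Nat.card_eq_fintype_card]; decide +kernel
  have hle : Cen ≤ S := fun g hg =>
    Subgroup.mem_subgroupOf.2 (cen_stab ⟨g, hg⟩)
  have h := Cen.card_mul_index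
  rw [← Subgroup.relIndex_mul_index hle, card_M24] at h
  have h2 : Cen.relIndex S * S.index ≤ 15 * 759 := Nat.mul_le_mul hrel hS
  have : Nat.card Cen * (Cen.relIndex S * S.index) ≤ Nat.card Cen * (15 * 759) :=
    Nat.mul_le_mul_left _ h2
  omega

theorem centralizer_equiv (s : SL(5, ZMod 2))
    (hs : (s : Matrix (Fin 5) (Fin 5) (ZMod 2)) = Matrix.transvection 0 1 1) :
    Nonempty (Cen ≃* Subgroup.centralizer ({s} : Set SL(5, ZMod 2))) := by
  let f := affHom.codRestrict _ (affHom_mem s hs)
  have hinj : Function.Injective f := fun a b h => affHom_injective (congrArg Subtype.val h)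
  refine ⟨MulEquiv.ofBijective f ((Nat.bijective_iff_injective_and_card f).2 ⟨hinj, ?_⟩)⟩
  exact le_antisymm (Nat.card_le_card_of_injective f hinj) ((card_cen_SL s hs).trans card_Cen)

end CfsgLib.M24Centralizer
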